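import Groth.Agent.Lib.EtSite.DerivedBCAdj
import Groth.Agent.Lib.DerCat.RFObj
import Groth.Agent.Lib.DerCat.DerAdj

/-!
The transposed base change map in degree `q` on injective resolutions.
-/

set_option autoImplicit false
set_option backward.isDefEq.respectTransparency.types false

universe v₁ v₂ v₃ v₄ u₁ u₂ u₃ u₄

open CategoryTheory CategoryTheory.Limits HomologicalComplex

noncomputable section

namespace Groth.Agent.Lib.EtSite.BCCmp.Degree

variable {A : Type u₁} [Category.{v₁} A] [Abelian A] [HasInjectiveResolutions A]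
  {A' : Type u₂} [Category.{v₂} A'] [Abelian A'] [HasInjectiveResolutions A']
  {B : Type u₃} [Category.{v₃} B] [Abelian B]
  {B' : Type u₄} [Category.{v₄} B'] [Abelian B']
  {p : A ⥤ B} [p.Additive] {p' : A' ⥤ B'} [p'.Additive]
  {R' : A' ⥤ A} [R'.Additive] [R'.PreservesInjectiveObjects]
  {L' : A ⥤ A'} [L'.Additive]
  {R : B' ⥤ B} [R.Additive] [PreservesFiniteLimits R]
  {L : B ⥤ B'} [L.Additive] [PreservesFiniteLimits L]
  (aL : L ⊣ R) (aL' : L' ⊣ R') (α₀ : R' ⋙ p ⟶ p' ⋙ R)

/-- The termwise base change map. -/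
def bNat : p ⋙ L ⟶ L' ⋙ p' where
  app M := (aL.homEquiv _ _).symm (p.map (aL'.unit.app M) ≫ α₀.app (L'.obj M))
  naturality M N f := by
    dsimp
    rw [← Adjunction.homEquiv_naturality_left_symm, ← Adjunction.homEquiv_naturality_right_symm]
    refine congrArg _ ?_
    have h1 := aL'.unit.naturality f
    have h2 := α₀.naturality (L'.map f)
    dsimp at h1 h2
    rw [← Category.assoc, ← p.map_comp, h1, p.map_comp, Category.assoc, Category.assoc, h2]

variable (G : A)

/-- The resolution of the source. -/
abbrev I0 : CochainComplex A ℕ := (injectiveResolution G).cocomplex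

/-- The resolution of the inverse image. -/
abbrev J0 : CochainComplex A' ℕ := (injectiveResolution (L'.obj G)).cocomplex

/-- The comparison `L' I ⟶ J`. -/
def θ0 : (L'.mapHomologicalComplex (ComplexShape.up ℕ)).obj (I0 G) ⟶ J0 (L' := L') G :=
  ((DerCat.DerAdj.adjC aL' (ComplexShape.up ℕ)).homEquiv _ _).symm
    (DerivedBC.lift R' (aL'.unit.app G))

theorem homEquiv_θ0_f (n : ℕ) :
    (aL'.homEquiv _ _) ((θ0 aL' G).f n) = (DerivedBC.lift R' (aL'.unit.app G)).f n := by
  refine Eq.trans ?_ (congrArg (fun t => t.f n) (Equiv.apply_symm_apply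
    ((DerCat.DerAdj.adjC aL' (ComplexShape.up ℕ)).homEquiv _ _) (DerivedBC.lift R' (aL'.unit.app G))))
  simp only [θ0, Adjunction.homEquiv_unit]
  rfl

theorem quasiIso_θ0 [PreservesFiniteLimits L'] [PreservesFiniteColimits L'] : QuasiIso (θ0 aL' G) := by
  have : QuasiIso (RDer.mapAug L' (injectiveResolution G).ι) := by
    unfold RDer.mapAug
    infer_instance
  have h : RDer.mapAug L' (injectiveResolution G).ι ≫ θ0 aL' G =
      (injectiveResolution (L'.obj G)).ι := by
    refine HomologicalComplex.from_single_hom_ext ?_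
    apply (aL'.homEquiv _ _).injective
    rw [HomologicalComplex.comp_f, DerivedBC.mapAug_f_zero]
    refine (aL'.homEquiv_naturality_left _ _).trans ?_
    rw [homEquiv_θ0_f]
    exact (DerivedBC.lift_spec _ _).trans ((_ ≫= DerivedBC.mapAug_f_zero _ _).trans
      (aL'.homEquiv_unit _ _ _).symm)
  have : QuasiIso (RDer.mapAug L' (injectiveResolution G).ι ≫ θ0 aL' G) := by
    rw [h]; infer_instance
  exact quasiIso_of_comp_left (RDer.mapAug L' (injectiveResolution G).ι) (θ0 aL' G)

/-- The base change map on resolutions. -/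
def χ0 : (L.mapHomologicalComplex (ComplexShape.up ℕ)).obj
      ((p.mapHomologicalComplex (ComplexShape.up ℕ)).obj (I0 G)) ⟶
    (p'.mapHomologicalComplex (ComplexShape.up ℕ)).obj (J0 (L' := L') G) :=
  (NatTrans.mapHomologicalComplex (bNat aL aL' α₀) (ComplexShape.up ℕ)).app (I0 G) ≫
    (p'.mapHomologicalComplex (ComplexShape.up ℕ)).map (θ0 aL' G)

variable [HasInjectiveResolutions B] [PreservesFiniteColimits L]

omit [HasInjectiveResolutions B] [PreservesFiniteColimits L] in
theorem homologyMap_χ0 (q : ℕ) [PreservesFiniteLimits p] [PreservesFiniteLimits p'] :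
    RDer.homologyComparison L ((p.mapHomologicalComplex (ComplexShape.up ℕ)).obj (I0 G)) q ≫
        L.map ((injectiveResolution G).isoRightDerivedObj p q).inv ≫
        (aL.homEquiv _ _).symm (DerivedBC.bcMor (G := G) α₀ (aL'.unit.app G) q) =
      homologyMap (χ0 aL aL' α₀ G) q ≫
        ((injectiveResolution (L'.obj G)).isoRightDerivedObj p' q).inv := by
  let I := injectiveResolution G
  let J := injectiveResolution (L'.obj G)
  let x := (p.mapHomologicalComplex _).map (DerivedBC.lift R' (aL'.unit.app G)) ≫
    (NatTrans.mapHomologicalComplex α₀ (ComplexShape.up ℕ)).app J.cocomplex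
  have hx : (L.mapHomologicalComplex _).map x ≫
      (NatTrans.mapHomologicalComplex aL.counit _).app ((p'.mapHomologicalComplex _).obj J.cocomplex) =
      χ0 aL aL' α₀ G := by
    ext n
    change L.map (p.map ((DerivedBC.lift R' (aL'.unit.app G)).f n) ≫ α₀.app (J.cocomplex.X n)) ≫
        aL.counit.app _ = (aL.homEquiv _ _).symm (p.map (aL'.unit.app (I.cocomplex.X n)) ≫
          α₀.app (L'.obj (I.cocomplex.X n))) ≫ p'.map ((θ0 aL' G).f n)
    refine (aL.homEquiv_counit _ _ _).symm.trans ?_
    refine Eq.trans ?_ (aL.homEquiv_naturality_right_symm _ _)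
    refine congrArg (aL.homEquiv _ _).symm ?_
    refine Eq.trans ?_ ((_ ≫= α₀.naturality ((θ0 aL' G).f n)).trans (Category.assoc _ _ _).symm)
    refine Eq.trans ?_ (Category.assoc _ _ _)
    exact eq_whisker ((congrArg p.map ((homEquiv_θ0_f aL' G n).symm.trans
      (aL'.homEquiv_unit _ _ _))).trans (p.map_comp _ _)) _
  rw [DerivedBC.bcMor_eq (G := G) α₀ (aL'.unit.app G) q I (DerivedBC.lift R' (aL'.unit.app G))
    (DerivedBC.lift_spec R' (aL'.unit.app G))]
  rw [Adjunction.homEquiv_naturality_left_symm, ← Functor.map_comp_assoc]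
  refine (congrArg (fun m => RDer.homologyComparison L _ q ≫ L.map m ≫ _) (Iso.inv_hom_id _)).trans ?_
  rw [CategoryTheory.Functor.map_id, Category.id_comp]
  refine (congrArg (fun m => RDer.homologyComparison L _ q ≫ m)
    ((congrArg (aL.homEquiv _ _).symm (Category.assoc _ _ _).symm).trans
      (aL.homEquiv_naturality_right_symm _ _))).trans ?_
  refine (Category.assoc _ _ _).symm.trans (eq_whisker ?_ _)
  have key := DerivedBC.homologyComparison_counit aL
    (K := (p.mapHomologicalComplex (ComplexShape.up ℕ)).obj I.cocomplex)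
    (L := (p'.mapHomologicalComplex (ComplexShape.up ℕ)).obj J.cocomplex) x q
  exact key.trans (congrArg
    (fun t : (L.mapHomologicalComplex (ComplexShape.up ℕ)).obj
        ((p.mapHomologicalComplex (ComplexShape.up ℕ)).obj I.cocomplex) ⟶
        (p'.mapHomologicalComplex (ComplexShape.up ℕ)).obj J.cocomplex =>
      (homologyFunctor B' (ComplexShape.up ℕ) q).map t) hx)

/-- A property of morphisms stable under isomorphisms holds for the transposed base change map
in degree `q` iff it holds for the homology of the map on resolutions. -/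
theorem prop_transpose_iff (P : MorphismProperty B') [P.RespectsIso] (q : ℕ)
    [PreservesFiniteLimits p] [PreservesFiniteLimits p'] :
    P ((aL.homEquiv _ _).symm (DerivedBC.bcMor (G := G) α₀ (aL'.unit.app G) q)) ↔
      P (homologyMap (χ0 aL aL' α₀ G) q) := by
  have := DerivedBC.isIso_homologyComparison L
    ((p.mapHomologicalComplex (ComplexShape.up ℕ)).obj (I0 G)) q
  refine (P.cancel_left_of_respectsIso
    (L.map ((injectiveResolution G).isoRightDerivedObj p q).inv) _).symm.trans
      ((P.cancel_left_of_respectsIso (RDer.homologyComparison L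
        ((p.mapHomologicalComplex (ComplexShape.up ℕ)).obj (I0 G)) q) _).symm.trans ?_)
  exact (iff_of_eq (congrArg (fun m => P m) (homologyMap_χ0 aL aL' α₀ G q))).trans
    (P.cancel_right_of_respectsIso _ _)

end Groth.Agent.Lib.EtSite.BCCmp.Degree
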