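import Groth.Agent.Lib.EtSite.BCCmp.Degree
import Groth.Agent.Lib.DerCat.DerAdj
import Groth.Agent.Lib.DerivedOX.RightDerived
import Mathlib.Algebra.Homology.DerivedCategory.KInjective
import Mathlib.Algebra.Homology.Embedding.ExtendHomology
import Mathlib.CategoryTheory.Abelian.Injective.Extend
import Mathlib.CategoryTheory.Adjunction.Unique

/-!
The derived base change map on an object placed in degree zero, compared with the base change maps
of the right derived functors.
-/

set_option autoImplicit false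
set_option backward.isDefEq.respectTransparency.types false
set_option linter.unusedSectionVars false
set_option linter.style.haveILetI false

universe w₁ w₂ w₃ w₄ v₁ v₂ v₃ v₄ u₁ u₂ u₃ u₄

open CategoryTheory CategoryTheory.Limits HomologicalComplex
open Groth.Agent.Lib.DerivedOX Groth.Agent.Lib.DerCat

noncomputable section

namespace Groth.Agent.Lib.EtSite.BCCmp

section Extend

variable {A : Type u₁} [Category.{v₁} A] [Abelian A] {B : Type u₂} [Category.{v₂} B] [Abelian B]
  {C : Type u₃} [Category.{v₃} C] [Abelian C]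

theorem mapExtend_natTrans {F G : A ⥤ B} [F.Additive] [G.Additive] (τ : F ⟶ G)
    (K : CochainComplex A ℕ) :
    (NatTrans.mapHomologicalComplex τ (.up ℤ)).app (K.extend ComplexShape.embeddingUpNat) ≫
        (DerCat.RFObj.mapExtendIso G K).hom =
      (DerCat.RFObj.mapExtendIso F K).hom ≫
        extendMap ((NatTrans.mapHomologicalComplex τ (.up ℕ)).app K) ComplexShape.embeddingUpNat := by
  ext n
  cases n with
  | negSucc k =>
    exact (F.map_isZero (K.isZero_extend_X ComplexShape.embeddingUpNat _
      (fun i => by simp))).eq_of_src _ _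
  | ofNat k =>
    rw [HomologicalComplex.comp_f, HomologicalComplex.comp_f,
      HomologicalComplex.extendMap_f _ _ (i := k) (by simp)]
    change τ.app _ ≫ (G.map _ ≫ _) = (F.map _ ≫ _) ≫ _ ≫ τ.app (K.X k) ≫ _
    simp only [Category.assoc, Iso.symm_hom]
    erw [Iso.inv_hom_id_assoc]
    erw [← NatTrans.naturality_assoc]

theorem mapExtend_comp (F : A ⥤ B) [F.Additive] (G : B ⥤ C) [G.Additive] (K : CochainComplex A ℕ) :
    (DerCat.RFObj.mapExtendIso (F ⋙ G) K).hom =
      (G.mapHomologicalComplex (.up ℤ)).map (DerCat.RFObj.mapExtendIso F K).hom ≫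
        (DerCat.RFObj.mapExtendIso G ((F.mapHomologicalComplex (.up ℕ)).obj K)).hom := by
  ext n
  cases n with
  | negSucc k =>
    exact ((F ⋙ G).map_isZero (K.isZero_extend_X ComplexShape.embeddingUpNat _
      (fun i => by simp))).eq_of_src _ _
  | ofNat k =>
    rw [HomologicalComplex.comp_f]
    change G.map (F.map _) ≫ _ = G.map (F.map _ ≫ _) ≫ (G.map _ ≫ _)
    rw [Functor.map_comp, Category.assoc]
    refine congrArg (_ ≫ ·) ?_
    simp only [Iso.symm_hom]
    erw [← Functor.map_comp_assoc, Iso.inv_hom_id]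
    exact ((congrArg (· ≫ _) (G.map_id _)).trans (Category.id_comp _)).symm

theorem quasiIso_iso_comp {ι : Type*} {c : ComplexShape ι} {K L M : HomologicalComplex B c}
    (e : K ≅ L) (φ : L ⟶ M) (h : QuasiIso φ) : QuasiIso (e.hom ≫ φ) :=
  haveI := h
  inferInstance

end Extend

section Indep

variable {C : Type u₁} [Category.{v₁} C] {D : Type u₂} [Category.{v₂} D]

theorem symm_eq_leftAdjointUniq {F : C ⥤ D} {G : D ⥤ C} (adj adj₀ : F ⊣ G) {X : C} {Y : D}
    (x : X ⟶ G.obj Y) :
    (adj.homEquiv X Y).symm x =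
      (Adjunction.leftAdjointUniq adj adj₀).hom.app X ≫ (adj₀.homEquiv X Y).symm x := by
  rw [Adjunction.homEquiv_counit, Adjunction.homEquiv_counit, ← Adjunction.leftAdjointUniq_hom_app_counit
    adj adj₀ Y, ← Category.assoc, ← Category.assoc, (Adjunction.leftAdjointUniq adj adj₀).hom.naturality]

end Indep

variable {A : Type u₁} [Category.{v₁} A] [Abelian A] [HasDerivedCategory.{w₁} A]
  {A' : Type u₂} [Category.{v₂} A'] [Abelian A'] [HasDerivedCategory.{w₂} A']
  {B : Type u₃} [Category.{v₃} B] [Abelian B] [HasDerivedCategory.{w₃} B]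
  {B' : Type u₄} [Category.{v₄} B'] [Abelian B'] [HasDerivedCategory.{w₄} B']
  {p : A ⥤ B} [p.Additive] {p' : A' ⥤ B'} [p'.Additive]
  {R' : A' ⥤ A} [R'.Additive]
  {L' : A ⥤ A'} [L'.Additive] [PreservesFiniteLimits L'] [PreservesFiniteColimits L']
  {R : B' ⥤ B} [R.Additive]
  {L : B ⥤ B'} [L.Additive] [PreservesFiniteLimits L] [PreservesFiniteColimits L]

/-- `F` on complexes and then in the derived category. -/
abbrev onKh {C : Type u₁} [Category.{v₁} C] [Abelian C] {D : Type u₂} [Category.{v₂} D] [Abelian D]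
    [HasDerivedCategory.{w₂} D] (F : C ⥤ D) [F.Additive] :
    HomotopyCategory C (ComplexShape.up ℤ) ⥤ DerivedCategory D :=
  F.mapHomotopyCategory (ComplexShape.up ℤ) ⋙ DerivedCategory.Qh

variable (aL : L ⊣ R) (aL' : L' ⊣ R') (α₀ : R' ⋙ p ⟶ p' ⋙ R)

/-- The transformation to be derived. -/
def αN : p ⟶ L' ⋙ p' ⋙ R where
  app M := p.map (aL'.unit.app M) ≫ α₀.app (L'.obj M)
  naturality M N f := by
    have h1 := aL'.unit.naturality f
    have h2 := α₀.naturality (L'.map f)
    dsimp at h1 h2 ⊢
    rw [← Category.assoc, ← p.map_comp, h1, p.map_comp, Category.assoc, Category.assoc, h2]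

/-- The transformation on a complex. -/
def αC (K : CochainComplex A ℤ) : (p.mapHomologicalComplex _).obj K ⟶
    (R.mapHomologicalComplex _).obj ((p'.mapHomologicalComplex _).obj ((L'.mapHomologicalComplex _).obj K)) :=
  (NatTrans.mapHomologicalComplex (αN aL' α₀) (ComplexShape.up ℤ)).app K

/-- The termwise base change map on a complex. -/
def bC (K : CochainComplex A ℤ) : (L.mapHomologicalComplex _).obj ((p.mapHomologicalComplex _).obj K) ⟶
    (p'.mapHomologicalComplex _).obj ((L'.mapHomologicalComplex _).obj K) :=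
  (NatTrans.mapHomologicalComplex (Degree.bNat aL aL' α₀) (ComplexShape.up ℤ)).app K

theorem αC_counit (K : CochainComplex A ℤ) :
    (L.mapHomologicalComplex _).map (αC aL' α₀ K) ≫
      (DerAdj.adjC aL (ComplexShape.up ℤ)).counit.app
        ((p'.mapHomologicalComplex _).obj ((L'.mapHomologicalComplex _).obj K)) = bC aL aL' α₀ K :=
  HomologicalComplex.hom_ext _ _ fun _ => (aL.homEquiv_counit _ _ _).symm

variable [(DerivedCategory.Qh (C := A)).IsLeftAdjoint] [(DerivedCategory.Qh (C := A')).IsLeftAdjoint]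
  [(DerivedCategory.Qh (C := B')).IsLeftAdjoint]
  [(onKh p).HasRightDerivedFunctor (HomotopyCategory.quasiIso A (ComplexShape.up ℤ))]
  [(p'.mapHomotopyCategory (ComplexShape.up ℤ) ⋙ DerivedCategory.Qh).HasRightDerivedFunctor
    (HomotopyCategory.quasiIso A' (ComplexShape.up ℤ))]
  [(R.mapHomotopyCategory (ComplexShape.up ℤ) ⋙ DerivedCategory.Qh).HasRightDerivedFunctor
    (HomotopyCategory.quasiIso B' (ComplexShape.up ℤ))]

variable (p p' R) in
/-- `Rp`. -/
abbrev RP : DerivedCategory A ⥤ DerivedCategory B :=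
  (p.mapHomotopyCategory (ComplexShape.up ℤ) ⋙ DerivedCategory.Qh).totalRightDerived
    DerivedCategory.Qh (HomotopyCategory.quasiIso A (ComplexShape.up ℤ))

variable (p') in
/-- `Rp'`. -/
abbrev RP' : DerivedCategory A' ⥤ DerivedCategory B' :=
  (p'.mapHomotopyCategory (ComplexShape.up ℤ) ⋙ DerivedCategory.Qh).totalRightDerived
    DerivedCategory.Qh (HomotopyCategory.quasiIso A' (ComplexShape.up ℤ))

variable (R) in
/-- `RR`. -/
abbrev RR : DerivedCategory B' ⥤ DerivedCategory B :=
  (R.mapHomotopyCategory (ComplexShape.up ℤ) ⋙ DerivedCategory.Qh).totalRightDerived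
    DerivedCategory.Qh (HomotopyCategory.quasiIso B' (ComplexShape.up ℤ))

/-- The unit of a total right derived functor on a complex. -/
abbrev unitAt {C : Type u₁} [Category.{v₁} C] [Abelian C] [HasDerivedCategory.{w₁} C]
    {H : Type u₂} [Category.{v₂} H] (F : HomotopyCategory C (ComplexShape.up ℤ) ⥤ H)
    [F.HasRightDerivedFunctor (HomotopyCategory.quasiIso C (ComplexShape.up ℤ))]
    (K : CochainComplex C ℤ) :=
  (F.totalRightDerivedUnit DerivedCategory.Qh (HomotopyCategory.quasiIso C (ComplexShape.up ℤ))).app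
    ((HomotopyCategory.quotient C (ComplexShape.up ℤ)).obj K)

/-- The adjunction computed on K-injective resolutions. -/
def adj₀ : L.mapDerivedCategory ⊣ RR R :=
  (DerAdj.derivedAdj aL).ofNatIsoRight
    (RightDerived.totalRightDerivedIso (R.mapHomotopyCategory (ComplexShape.up ℤ) ⋙ DerivedCategory.Qh))

theorem derivedAdj_counit (d : DerivedCategory B') :
    (DerAdj.derivedAdj aL).counit.app d =
      L.mapDerivedCategoryFactorsh.hom.app
          ((R.mapHomotopyCategory (ComplexShape.up ℤ)).obj ((RightDerived.resFunctor B').obj d)) ≫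
        DerivedCategory.Qh.map ((DerAdj.adjK aL (ComplexShape.up ℤ)).counit.app
          ((RightDerived.resFunctor B').obj d)) ≫ (RightDerived.resAdj B').counit.app d := by
  simp [DerAdj.derivedAdj, Adjunction.ofNatIsoRight, Adjunction.comp_counit_app]

theorem adj₀_symm_unit (C : CochainComplex B' ℤ) :
    ((adj₀ aL).homEquiv _ _).symm (unitAt (R.mapHomotopyCategory (ComplexShape.up ℤ) ⋙ DerivedCategory.Qh) C) =
      L.mapDerivedCategoryFactorsh.hom.app
          ((HomotopyCategory.quotient B (ComplexShape.up ℤ)).obj ((R.mapHomologicalComplex _).obj C)) ≫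
        DerivedCategory.Qh.map ((DerAdj.adjK aL (ComplexShape.up ℤ)).counit.app
          ((HomotopyCategory.quotient B' (ComplexShape.up ℤ)).obj C)) := by
  let X := (HomotopyCategory.quotient B' (ComplexShape.up ℤ)).obj C
  have h1 := L.mapDerivedCategoryFactorsh.hom.naturality
    ((R.mapHomotopyCategory (ComplexShape.up ℤ)).map ((RightDerived.resAdj B').unit.app X))
  have h2 := (DerAdj.adjK aL (ComplexShape.up ℤ)).counit.naturality ((RightDerived.resAdj B').unit.app X)
  have h3 := RightDerived.derivedUnit_comp_totalRightDerivedIso_hom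
    (R.mapHomotopyCategory (ComplexShape.up ℤ) ⋙ DerivedCategory.Qh) X
  rw [RightDerived.derivedUnit_app] at h3
  dsimp [X] at h1 h2 h3
  rw [Adjunction.homEquiv_counit]
  simp only [adj₀, Adjunction.ofNatIsoRight]
  rw [unitAt, ← h3]
  simp [derivedAdj_counit, reassoc_of% h1]
  rw [← Functor.map_comp_assoc, h2, Functor.map_comp, Category.assoc]
  simp
  rfl

variable (γ : RP p ⟶ L'.mapDerivedCategory ⋙ RP' p' ⋙ RR R)

/-- The description of `γ` on complexes. -/
def Fac : Prop :=
  ∀ K : CochainComplex A ℤ,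
    unitAt (p.mapHomotopyCategory (ComplexShape.up ℤ) ⋙ DerivedCategory.Qh) K ≫
        γ.app (DerivedCategory.Qh.obj ((HomotopyCategory.quotient A (ComplexShape.up ℤ)).obj K)) =
      DerivedCategory.Qh.map ((HomotopyCategory.quotient B (ComplexShape.up ℤ)).map (αC aL' α₀ K)) ≫
        unitAt (R.mapHomotopyCategory (ComplexShape.up ℤ) ⋙ DerivedCategory.Qh)
          ((p'.mapHomologicalComplex _).obj ((L'.mapHomologicalComplex _).obj K)) ≫
        (RR R).map (unitAt (p'.mapHomotopyCategory (ComplexShape.up ℤ) ⋙ DerivedCategory.Qh)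
          ((L'.mapHomologicalComplex _).obj K)) ≫
        (RR R).map ((RP' p').map (L'.mapDerivedCategoryFactorsh.inv.app
          ((HomotopyCategory.quotient A (ComplexShape.up ℤ)).obj K)))

variable {γ}

theorem fac₀ (hγ : Fac aL' α₀ γ) (K : CochainComplex A ℤ) :
    L.mapDerivedCategory.map (unitAt (p.mapHomotopyCategory (ComplexShape.up ℤ) ⋙ DerivedCategory.Qh) K) ≫
        ((adj₀ aL).homEquiv _ _).symm
          (γ.app (DerivedCategory.Qh.obj ((HomotopyCategory.quotient A (ComplexShape.up ℤ)).obj K))) =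
      L.mapDerivedCategoryFactorsh.hom.app
          ((HomotopyCategory.quotient B (ComplexShape.up ℤ)).obj ((p.mapHomologicalComplex _).obj K)) ≫
        DerivedCategory.Qh.map ((HomotopyCategory.quotient B' (ComplexShape.up ℤ)).map (bC aL aL' α₀ K)) ≫
        unitAt (p'.mapHomotopyCategory (ComplexShape.up ℤ) ⋙ DerivedCategory.Qh)
          ((L'.mapHomologicalComplex _).obj K) ≫
        (RP' p').map (L'.mapDerivedCategoryFactorsh.inv.app
          ((HomotopyCategory.quotient A (ComplexShape.up ℤ)).obj K)) := by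
  refine ((adj₀ aL).homEquiv_naturality_left_symm _ _).symm.trans ?_
  rw [hγ K]
  refine ((adj₀ aL).homEquiv_naturality_left_symm _ _).trans ?_
  refine (_ ≫= ((congrArg ((adj₀ aL).homEquiv _ _).symm (_ ≫= ((RR R).map_comp _ _).symm)).trans
    (((adj₀ aL).homEquiv_naturality_right_symm _ _).trans
      (eq_whisker (adj₀_symm_unit aL _) _)))).trans ?_
  have h1 := L.mapDerivedCategoryFactorsh.hom.naturality
    ((HomotopyCategory.quotient B (ComplexShape.up ℤ)).map (αC aL' α₀ K))
  have hq : (L.mapHomotopyCategory (ComplexShape.up ℤ)).map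
        ((HomotopyCategory.quotient B (ComplexShape.up ℤ)).map (αC aL' α₀ K)) ≫
      (DerAdj.adjK aL (ComplexShape.up ℤ)).counit.app ((HomotopyCategory.quotient B' (ComplexShape.up ℤ)).obj
        ((p'.mapHomologicalComplex _).obj ((L'.mapHomologicalComplex _).obj K))) =
      (HomotopyCategory.quotient B' (ComplexShape.up ℤ)).map (bC aL aL' α₀ K) :=
    ((HomotopyCategory.quotient B' (ComplexShape.up ℤ)).map_comp _ _).symm.trans
      (congrArg (HomotopyCategory.quotient B' (ComplexShape.up ℤ)).map (αC_counit aL aL' α₀ K))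
  refine (Category.assoc _ _ _).symm.trans ((eq_whisker ((Category.assoc _ _ _).symm.trans
    ((eq_whisker h1 _).trans ((Category.assoc _ _ _).trans
      (_ ≫= ((DerivedCategory.Qh.map_comp _ _).symm.trans
        (congrArg DerivedCategory.Qh.map hq)))))) _).trans (Category.assoc _ _ _))

theorem prop_natIso {C₁ : Type*} [Category C₁] {C₂ : Type*} [Category C₂] {F₁ F₂ : C₁ ⥤ C₂} (e : F₁ ≅ F₂)
    (P : MorphismProperty C₂) [P.RespectsIso] {X Y : C₁} (f : X ⟶ Y) : P (F₁.map f) ↔ P (F₂.map f) :=
  P.arrow_mk_iso_iff (Arrow.isoMk (e.app X) (e.app Y) (e.hom.naturality f).symm)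

theorem isIso_Qh_map {C : Type u₁} [Category.{v₁} C] [Abelian C] [HasDerivedCategory.{w₁} C]
    {K M : CochainComplex C ℤ} (f : K ⟶ M) [QuasiIso f] :
    IsIso (DerivedCategory.Qh.map ((HomotopyCategory.quotient C (ComplexShape.up ℤ)).map f)) :=
  (prop_natIso (DerivedCategory.quotientCompQhIso C) (MorphismProperty.isomorphisms _) f).2
    ((DerivedCategory.isIso_Q_map_iff_quasiIso _ f).2 inferInstance)

/-- The base change map of a transformation `γ` and an adjunction. -/
def bcD (adj : L.mapDerivedCategory ⊣ RR R) (γ : RP p ⟶ L'.mapDerivedCategory ⋙ RP' p' ⋙ RR R)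
    (X : DerivedCategory A) :
    L.mapDerivedCategory.obj ((RP p).obj X) ⟶ (RP' p').obj (L'.mapDerivedCategory.obj X) :=
  (adj.homEquiv _ _).symm (γ.app X)

variable (adj : L.mapDerivedCategory ⊣ RR R)

theorem bcD_natural {X Y : DerivedCategory A} (f : X ⟶ Y) :
    L.mapDerivedCategory.map ((RP p).map f) ≫ bcD adj γ Y =
      bcD adj γ X ≫ (RP' p').map (L'.mapDerivedCategory.map f) := by
  refine (adj.homEquiv_naturality_left_symm _ _).symm.trans ?_
  refine (congrArg (adj.homEquiv _ _).symm (γ.naturality f)).trans ?_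
  exact adj.homEquiv_naturality_right_symm _ _

theorem prop_bcD_iff_of_iso (P : MorphismProperty (DerivedCategory B')) [P.RespectsIso]
    {X Y : DerivedCategory A} (e : X ≅ Y) : P (bcD adj γ X) ↔ P (bcD adj γ Y) :=
  P.arrow_mk_iso_iff (Arrow.isoMk (L.mapDerivedCategory.mapIso ((RP p).mapIso e))
    ((RP' p').mapIso (L'.mapDerivedCategory.mapIso e)) (bcD_natural adj e.hom))

theorem prop_bcD_qis_iff (hγ : Fac aL' α₀ γ) (P : MorphismProperty (DerivedCategory B')) [P.RespectsIso]
    (I : CochainComplex A ℤ) [I.IsKInjective] {J : CochainComplex A' ℤ} [J.IsKInjective]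
    (t : (L'.mapHomologicalComplex _).obj I ⟶ J) [QuasiIso t] :
    P (bcD adj γ (DerivedCategory.Qh.obj ((HomotopyCategory.quotient A (ComplexShape.up ℤ)).obj I))) ↔
      P (DerivedCategory.Qh.map ((HomotopyCategory.quotient B' (ComplexShape.up ℤ)).map
        (bC aL aL' α₀ I ≫ (p'.mapHomologicalComplex _).map t))) := by
  have := RightDerived.isIso_totalRightDerivedUnit_app_of_isKInjective
    (p.mapHomotopyCategory (ComplexShape.up ℤ) ⋙ DerivedCategory.Qh) I
  have hJ := RightDerived.isIso_totalRightDerivedUnit_app_of_isKInjective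
    (p'.mapHomotopyCategory (ComplexShape.up ℤ) ⋙ DerivedCategory.Qh) J
  have := isIso_Qh_map t
  refine (iff_of_eq (congrArg (fun m => P m) (symm_eq_leftAdjointUniq adj (adj₀ aL) _))).trans ?_
  refine (P.cancel_left_of_respectsIso _ _).trans ?_
  refine (P.cancel_left_of_respectsIso (L.mapDerivedCategory.map
    (unitAt (p.mapHomotopyCategory (ComplexShape.up ℤ) ⋙ DerivedCategory.Qh) I)) _).symm.trans ?_
  refine (iff_of_eq (congrArg (fun m => P m) (fac₀ aL aL' α₀ hγ I))).trans ?_
  refine (P.cancel_left_of_respectsIso (L.mapDerivedCategoryFactorsh.app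
    ((HomotopyCategory.quotient B (ComplexShape.up ℤ)).obj ((p.mapHomologicalComplex _).obj I))).hom _).trans ?_
  refine (iff_of_eq (congrArg (fun m => P m) (Category.assoc _ _ _).symm)).trans ?_
  refine (P.cancel_right_of_respectsIso _ ((RP' p').mapIso (L'.mapDerivedCategoryFactorsh.app
    ((HomotopyCategory.quotient A (ComplexShape.up ℤ)).obj I)).symm).hom).trans ?_
  refine (P.cancel_right_of_respectsIso _
    ((RP' p').map (DerivedCategory.Qh.map ((HomotopyCategory.quotient A' (ComplexShape.up ℤ)).map t)))).symm.trans ?_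
  have hn := ((p'.mapHomotopyCategory (ComplexShape.up ℤ) ⋙ DerivedCategory.Qh).totalRightDerivedUnit
    DerivedCategory.Qh (HomotopyCategory.quasiIso A' (ComplexShape.up ℤ))).naturality
      ((HomotopyCategory.quotient A' (ComplexShape.up ℤ)).map t)
  refine (iff_of_eq (congrArg (fun m => P m) ((Category.assoc _ _ _).trans ((_ ≫= hn.symm).trans
    ((Category.assoc _ _ _).symm.trans (eq_whisker ((DerivedCategory.Qh.map_comp _ _).symm.trans
      (congrArg DerivedCategory.Qh.map
        ((HomotopyCategory.quotient B' (ComplexShape.up ℤ)).map_comp _ _).symm)) _)))))).trans ?_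
  exact @MorphismProperty.cancel_right_of_respectsIso _ _ P _ _ _ _ _ _ hJ

section Single

variable [HasInjectiveResolutions A] [HasInjectiveResolutions A'] [R'.PreservesInjectiveObjects] (G : A)

/-- `L' I ⟶ J` on `ℤ`. -/
def θZ : (L'.mapHomologicalComplex (ComplexShape.up ℤ)).obj (injectiveResolution G).cochainComplex ⟶
    (injectiveResolution (L'.obj G)).cochainComplex :=
  (DerCat.RFObj.mapExtendIso L' (Degree.I0 G)).hom ≫
    extendMap (Degree.θ0 aL' G) ComplexShape.embeddingUpNat

theorem quasiIso_θZ : QuasiIso (θZ aL' G) := by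
  haveI := Degree.quasiIso_θ0 aL' G
  unfold θZ
  exact quasiIso_iso_comp _ _ ((quasiIso_extendMap_iff _ _).2 inferInstance)

theorem χ_eq :
    (bC aL aL' α₀ (injectiveResolution G).cochainComplex ≫
        (p'.mapHomologicalComplex (ComplexShape.up ℤ)).map (θZ aL' G)) ≫
        (DerCat.RFObj.mapExtendIso p' (Degree.J0 (L' := L') G)).hom =
      (DerCat.RFObj.mapExtendIso (p ⋙ L) (Degree.I0 G)).hom ≫
        extendMap (Degree.χ0 aL aL' α₀ G) ComplexShape.embeddingUpNat := by
  have h1 := mapExtend_natTrans (Degree.bNat aL aL' α₀) (Degree.I0 G)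
  have h2 := mapExtend_comp L' p' (Degree.I0 G)
  have h3 := DerCat.RFObj.mapExtendIso_naturality p' (Degree.θ0 aL' G)
  rw [θZ, Functor.map_comp, Category.assoc, Category.assoc]
  refine Eq.trans (congrArg (fun t => _ ≫ _ ≫ t) h3) ?_
  refine Eq.trans (congrArg (_ ≫ ·) ((Category.assoc _ _ _).symm.trans
    (congrArg (· ≫ _) h2.symm))) ?_
  refine Eq.trans (Category.assoc _ _ _).symm (Eq.trans (congrArg (· ≫ _) h1) ?_)
  refine Eq.trans (Category.assoc _ _ _) (congrArg (_ ≫ ·) ?_)
  exact (extendMap_comp _ _ _).symm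

/-- The base change map of a single object, on homology. -/
theorem prop_bcD_single_iff (hγ : Fac aL' α₀ γ) (P : MorphismProperty B') [P.RespectsIso] (n : ℤ) :
    P ((DerivedCategory.homologyFunctor B' n).map (bcD adj γ ((DerivedCategory.singleFunctor A 0).obj G))) ↔
      P (homologyMap (extendMap (Degree.χ0 aL aL' α₀ G) ComplexShape.embeddingUpNat) n) := by
  let T := injectiveResolution G
  let T' := injectiveResolution (L'.obj G)
  haveI := CochainComplex.isKInjective_of_injective T.cochainComplex 0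
  haveI := CochainComplex.isKInjective_of_injective T'.cochainComplex 0
  haveI := quasiIso_θZ aL' G
  haveI : IsIso (DerivedCategory.Q.map T.ι') :=
    (DerivedCategory.isIso_Q_map_iff_quasiIso _ T.ι').2 inferInstance
  let e : DerivedCategory.Qh.obj ((HomotopyCategory.quotient A (ComplexShape.up ℤ)).obj T.cochainComplex) ≅
      (DerivedCategory.singleFunctor A 0).obj G :=
    (DerivedCategory.quotientCompQhIso A).app _ ≪≫ (asIso (DerivedCategory.Q.map T.ι')).symm ≪≫
      ((DerivedCategory.singleFunctorIsoCompQ A 0).app G).symm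
  refine ((prop_bcD_iff_of_iso adj (P.inverseImage (DerivedCategory.homologyFunctor B' n)) e).symm.trans
    (prop_bcD_qis_iff aL aL' α₀ adj hγ (P.inverseImage (DerivedCategory.homologyFunctor B' n))
      T.cochainComplex (θZ aL' G))).trans ?_
  refine (prop_natIso (Functor.isoWhiskerLeft (HomotopyCategory.quotient B' (ComplexShape.up ℤ))
    (DerivedCategory.homologyFunctorFactorsh B' n) ≪≫
      HomotopyCategory.homologyFunctorFactors B' (ComplexShape.up ℤ) n) P _).trans ?_
  refine (P.cancel_right_of_respectsIso _ (homologyMap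
    (DerCat.RFObj.mapExtendIso p' (Degree.J0 (L' := L') G)).hom n)).symm.trans ?_
  refine (iff_of_eq (congrArg (fun m => P m) ((homologyMap_comp _ _ n).symm.trans
    ((congrArg (fun m => homologyMap m n) (χ_eq aL aL' α₀ G)).trans (homologyMap_comp _ _ n))))).trans ?_
  exact P.cancel_left_of_respectsIso _ _

theorem prop_bcD_single_natCast_iff (hγ : Fac aL' α₀ γ) [HasInjectiveResolutions B]
    [PreservesFiniteLimits R] [PreservesFiniteLimits p] [PreservesFiniteLimits p']
    (P : MorphismProperty B') [P.RespectsIso] (q : ℕ) :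
    P ((DerivedCategory.homologyFunctor B' (q : ℤ)).map
        (bcD adj γ ((DerivedCategory.singleFunctor A 0).obj G))) ↔
      P ((aL.homEquiv _ _).symm (DerivedBC.bcMor (G := G) α₀ (aL'.unit.app G) q)) := by
  refine (prop_bcD_single_iff aL aL' α₀ adj G hγ P q).trans ?_
  refine Iff.trans ?_ (Degree.prop_transpose_iff aL aL' α₀ G P q).symm
  exact P.arrow_mk_iso_iff (Arrow.isoMk
    (HomologicalComplex.extendHomologyIso _ ComplexShape.embeddingUpNat (j := q) rfl)
    (HomologicalComplex.extendHomologyIso _ ComplexShape.embeddingUpNat (j := q) rfl)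
    (HomologicalComplex.extendHomologyIso_hom_naturality _ ComplexShape.embeddingUpNat rfl).symm)

include aL in
theorem isIso_bcD_single_of_neg (hγ : Fac aL' α₀ γ) (n : ℤ) (hn : n < 0) :
    IsIso ((DerivedCategory.homologyFunctor B' n).map
      (bcD adj γ ((DerivedCategory.singleFunctor A 0).obj G))) := by
  refine (prop_bcD_single_iff aL aL' α₀ adj G hγ (MorphismProperty.isomorphisms B') n).2 ?_
  have hz : ∀ K : CochainComplex B' ℕ, IsZero ((K.extend ComplexShape.embeddingUpNat).homology n) := fun K => by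
    rw [← HomologicalComplex.exactAt_iff_isZero_homology]
    exact HomologicalComplex.extend_exactAt _ _ _ (fun i hi => by simp at hi; lia)
  exact ⟨0, (hz _).eq_of_src _ _, (hz _).eq_of_tgt _ _⟩

end Single

end Groth.Agent.Lib.EtSite.BCCmp
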