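import Groth.Agent.Lib.EtSite.BCCmp.Derived
import Groth.Agent.Lib.EtSite.Pull
import Groth.Agent.Lib.DerivedOX.Exists
import Groth.Prelude.Def_EtBCD
import Groth.Prelude.Def_EtBC2

/-!
The cohomology sheaves of `EtBC.bcMap` on a single sheaf are the maps `EtBC.bcQ`.
-/

set_option autoImplicit false
set_option backward.isDefEq.respectTransparency.types false
set_option linter.unusedSectionVars false

universe u

open CategoryTheory CategoryTheory.Limits AlgebraicGeometry

attribute [local instance] HasDerivedCategory.standard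

noncomputable section

namespace Groth.Agent.Lib.EtSite.BCCmp.Etale

variable {X S X' S' : Scheme.{u}} (f : X ⟶ S) (g : S' ⟶ S) (f' : X' ⟶ S') (g' : X' ⟶ X)
  (w : g' ≫ f = f' ≫ g)

/-- `f_* g'_* ≅ g_* f'_*`. -/
def sq : EtCoh.push g' ⋙ EtCoh.push f ⟶ EtCoh.push f' ⋙ EtCoh.push g :=
  (EtCoh.pushComp f g' ≪≫ EtCoh.pushCongr w ≪≫ (EtCoh.pushComp g f').symm).hom

variable [PreservesFiniteLimits (EtCoh.pull g')]

theorem bcQ_eq (q : ℕ) (F : EtCoh.Ab X) :
    EtBC.bcQ f g f' g' w q F = ((EtCoh.pullPushAdj g).homEquiv _ _).symm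
      (DerivedBC.bcMor (G := F) (sq f g f' g' w) ((EtCoh.pullPushAdj g').unit.app F) q) := rfl

variable [PreservesFiniteLimits (EtCoh.pull g)]
  [DCoh.HasRpushEt X f] [DCoh.HasRpushEt X' f'] [DCoh.HasRpushEt S' g]

omit [PreservesFiniteLimits (EtCoh.pull g')] [PreservesFiniteLimits (EtCoh.pull g)]
  [DCoh.HasRpushEt X f] [DCoh.HasRpushEt X' f'] [DCoh.HasRpushEt S' g] in
theorem pushToPushPullH_app (K : CochainComplex (EtCoh.Ab X) ℤ) :
    (EtBC.pushToPushPullH f g f' g' w).app ((HomotopyCategory.quotient _ _).obj K) =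
      (HomotopyCategory.quotient (EtCoh.Ab S) (ComplexShape.up ℤ)).map
        (αC (EtCoh.pullPushAdj g') (sq f g f' g' w) K) := by
  dsimp [EtBC.pushToPushPullH, NatTrans.mapHomotopyCategory, Functor.mapHomotopyCategoryCompIso,
    Quotient.natIsoLift, Quotient.natTransLift]
  refine (congrArg (_ ≫ ·) ((HomotopyCategory.quotient _ _).map_comp _ _).symm).trans ?_
  refine ((HomotopyCategory.quotient _ _).map_comp _ _).symm.trans (congrArg _ ?_)
  ext n
  simp [Functor.mapHomologicalComplexCompIso, αC, αN, sq, EtBC.pushToPushPull]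
  rfl

theorem fac : Fac (EtCoh.pullPushAdj g') (sq f g f' g' w) (EtBC.bcAdj f g f' g' w) := fun K => by
  refine (Functor.rightDerived_fac_app _ _ _ _ _ _).trans ?_
  simp only [EtBC.bcUnit, NatTrans.comp_app, Functor.whiskerRight_app, Functor.whiskerLeft_app,
    Functor.associator_hom_app, Functor.associator_inv_app, Category.id_comp, Category.comp_id,
    Category.assoc, Functor.comp_map]
  rw [pushToPushPullH_app]
  rfl

theorem bcMap_eq (adj : EtBC.pullD g ⊣ DCoh.RpushEt S' g) (K : DCoh.DEt X) :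
    EtBC.bcMap f g f' g' w adj K = bcD adj (EtBC.bcAdj f g f' g' w) K := rfl

/-- The cohomology sheaves of the derived base change map of a sheaf are the base change maps. -/
theorem prop_homology_bcMap_iff (adj : EtBC.pullD g ⊣ DCoh.RpushEt S' g) (F : EtCoh.Ab X)
    (P : MorphismProperty (EtCoh.Ab S')) [P.RespectsIso] (q : ℕ) :
    P ((DerivedCategory.homologyFunctor (EtCoh.Ab S') (q : ℤ)).map
        (EtBC.bcMap f g f' g' w adj (EtBC.single X F))) ↔
      P (EtBC.bcQ f g f' g' w q F) := by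
  rw [bcMap_eq, bcQ_eq]
  exact prop_bcD_single_natCast_iff (EtCoh.pullPushAdj g) (EtCoh.pullPushAdj g') (sq f g f' g' w) adj F
    (fac f g f' g' w) P q

theorem isIso_homology_bcMap_iff (adj : EtBC.pullD g ⊣ DCoh.RpushEt S' g) (F : EtCoh.Ab X) (q : ℕ) :
    IsIso ((DerivedCategory.homologyFunctor (EtCoh.Ab S') (q : ℤ)).map
        (EtBC.bcMap f g f' g' w adj (EtBC.single X F))) ↔
      IsIso (EtBC.bcQ f g f' g' w q F) :=
  prop_homology_bcMap_iff f g f' g' w adj F (MorphismProperty.isomorphisms _) q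

theorem mono_homology_bcMap_iff (adj : EtBC.pullD g ⊣ DCoh.RpushEt S' g) (F : EtCoh.Ab X) (q : ℕ) :
    Mono ((DerivedCategory.homologyFunctor (EtCoh.Ab S') (q : ℤ)).map
        (EtBC.bcMap f g f' g' w adj (EtBC.single X F))) ↔
      Mono (EtBC.bcQ f g f' g' w q F) :=
  prop_homology_bcMap_iff f g f' g' w adj F (MorphismProperty.monomorphisms _) q

theorem isIso_homology_bcMap_of_neg (adj : EtBC.pullD g ⊣ DCoh.RpushEt S' g) (F : EtCoh.Ab X)
    (n : ℤ) (hn : n < 0) :
    IsIso ((DerivedCategory.homologyFunctor (EtCoh.Ab S') n).map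
        (EtBC.bcMap f g f' g' w adj (EtBC.single X F))) := by
  rw [bcMap_eq]
  exact isIso_bcD_single_of_neg (EtCoh.pullPushAdj g) (EtCoh.pullPushAdj g') (sq f g f' g' w) adj F
    (fac f g f' g' w) n hn

/-- The derived base change map of a sheaf is an isomorphism iff all base change maps are. -/
theorem isIso_bcMap_iff (adj : EtBC.pullD g ⊣ DCoh.RpushEt S' g) (F : EtCoh.Ab X) :
    IsIso (EtBC.bcMap f g f' g' w adj (EtBC.single X F)) ↔
      ∀ q : ℕ, IsIso (EtBC.bcQ f g f' g' w q F) := by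
  constructor
  · intro h q
    exact (isIso_homology_bcMap_iff f g f' g' w adj F q).1 (Functor.map_isIso _ _)
  · intro h
    refine (DerivedCategory.isIso_iff _ _).2 fun n => ?_
    rcases lt_or_ge n 0 with hn | hn
    · exact isIso_homology_bcMap_of_neg f g f' g' w adj F n hn
    · obtain ⟨q, rfl⟩ := Int.eq_ofNat_of_zero_le hn
      exact (isIso_homology_bcMap_iff f g f' g' w adj F q).2 (h q)

end Groth.Agent.Lib.EtSite.BCCmp.Etale
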