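import Groth.Agent.Lib.EtSite.BCCmp.Paste
import Groth.Agent.Lib.EtJ.PullExact
import Groth.Agent.Lib.EtJ.MayerVietoris
import Groth.Agent.Lib.DerivedOX.RestrictKInj

/-!
Derived base change is etale local.
-/

set_option autoImplicit false
set_option backward.isDefEq.respectTransparency.types false
set_option linter.unusedSectionVars false
set_option linter.style.haveILetI false

universe u

open CategoryTheory CategoryTheory.Limits AlgebraicGeometry

attribute [local instance] HasDerivedCategory.standard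

noncomputable section

namespace Groth.Agent.Lib.EtSite.BCCmp.Local

open Paste

/-- Etale inverse image preserves K-injective complexes. -/
theorem isKInjective_pull {U X : Scheme.{u}} (j : U ⟶ X) [Etale j]
    (I : CochainComplex (EtCoh.Ab X) ℤ) [I.IsKInjective] :
    CochainComplex.IsKInjective (((EtCoh.pull j).mapHomologicalComplex (ComplexShape.up ℤ)).obj I) := by
  have adj := (EtShriek.extZeroAdj j).ofNatIsoRight (EtJ.Basic.pullIsoRestr j).symm
  have : PreservesFiniteColimits (EtShriek.extZero j) :=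
    have : PreservesColimitsOfSize.{0, 0} (EtShriek.extZero j) := adj.leftAdjoint_preservesColimits
    PreservesColimitsOfSize.preservesFiniteColimits _
  have : (EtShriek.extZero j).Additive := Functor.additive_of_preserves_binary_products _
  exact DerivedOX.RestrictKInj.isKInjective_of_adj adj inferInstance

theorem isIso_map_homologyMap {A B : Type*} [Category A] [Abelian A] [Category B] [Abelian B] (F : A ⥤ B)
    [F.Additive] [PreservesFiniteLimits F] [PreservesFiniteColimits F] {K L : CochainComplex A ℤ} (φ : K ⟶ L)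
    (n : ℤ) (hq : QuasiIso ((F.mapHomologicalComplex _).map φ)) :
    IsIso (F.map (HomologicalComplex.homologyMap φ n)) := by
  have e := ShortComplex.mapHomologyIso_hom_naturality
    ((HomologicalComplex.shortComplexFunctor _ _ n).map φ) F
  haveI := (quasiIsoAt_iff_isIso_homologyMap _ n).1 (hq.quasiIsoAt n)
  haveI : IsIso (ShortComplex.homologyMap
      (F.mapShortComplex.map ((HomologicalComplex.shortComplexFunctor A (ComplexShape.up ℤ) n).map φ))) := this
  have hc : IsIso (((K.sc n).mapHomologyIso F).hom ≫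
      F.map (HomologicalComplex.homologyMap φ n)) := by
    refine (congrArg (fun m => IsIso m) e).mp ?_
    exact @IsIso.comp_isIso _ _ _ _ _ _ _ this inferInstance
  exact @IsIso.of_isIso_comp_left _ _ _ _ _ ((K.sc n).mapHomologyIso F).hom _
    ((K.sc n).mapHomologyIso F).isIso_hom hc

/-- Exact conservative families detect quasi-isomorphisms. -/
theorem quasiIso_of_pull {X : Scheme.{u}} {K L : CochainComplex (EtCoh.Ab X) ℤ} (φ : K ⟶ L) {ι : Type u}
    (U : ι → X.Etale) (hU : EtCoh.Covers U)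
    (h : ∀ i, QuasiIso (((EtCoh.pull (U i).hom).mapHomologicalComplex _).map φ)) : QuasiIso φ := by
  rw [quasiIso_iff]
  intro n
  rw [quasiIsoAt_iff_isIso_homologyMap]
  exact EtBCQ.isIso_of_pull _ U hU fun i => isIso_map_homologyMap _ φ n (h i)

/-- The base change morphism of a cartesian square along an etale map is invertible. -/
theorem quasiIso_bcχ_etale {S T V T₀ : Scheme.{u}} (g : T ⟶ S) (v : V ⟶ S) (g' : T₀ ⟶ V) (t : T₀ ⟶ T)
    [Etale v] [Etale t] (sq : IsPullback t g' g v) (I : CochainComplex (EtCoh.Ab T) ℤ)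
    {J : CochainComplex (EtCoh.Ab T₀) ℤ} (s : ((EtCoh.pull t).mapHomologicalComplex _).obj I ⟶ J) [IsIso s] :
    QuasiIso (bcχ g v g' t sq.w s) := by
  have hb : IsIso ((NatTrans.mapHomologicalComplex (bc g v g' t sq.w) (ComplexShape.up ℤ)).app I) := by
    haveI : ∀ n, IsIso (((NatTrans.mapHomologicalComplex (bc g v g' t sq.w)
      (ComplexShape.up ℤ)).app I).f n) := fun n => EtBCQ.isIso_bc0_etale sq (I.X n)
    exact HomologicalComplex.Hom.isIso_of_components _
  have hp : IsIso (((EtCoh.push g').mapHomologicalComplex (ComplexShape.up ℤ)).map s) :=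
    Functor.map_isIso _ s
  haveI : IsIso (bcχ g v g' t sq.w s) := @IsIso.comp_isIso _ _ _ _ _ _ _ hb hp
  exact quasiIso_of_isIso _

variable {X S Y T W Z : Scheme.{u}} (f : X ⟶ S) (g : T ⟶ S) (h : Y ⟶ X) (e : Y ⟶ T)
  (w : e ≫ g = h ≫ f) (i : W ⟶ X) (j : Z ⟶ W) (k : Z ⟶ Y) (w' : k ≫ h = j ≫ i)
  (w'' : (k ≫ e) ≫ g = j ≫ i ≫ f)

theorem quasiIso_comp_iff {I : CochainComplex (EtCoh.Ab T) ℤ} {J : CochainComplex (EtCoh.Ab Y) ℤ}
    {J₂ : CochainComplex (EtCoh.Ab Z) ℤ} (t : ((EtCoh.pull e).mapHomologicalComplex _).obj I ⟶ J)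
    (t₂ : ((EtCoh.pull k).mapHomologicalComplex _).obj J ⟶ J₂) (h₂ : QuasiIso (bcχ h i j k w' t₂)) :
    QuasiIso (bcχ g (i ≫ f) j (k ≫ e) w''
        ((NatTrans.mapHomologicalComplex (comp₂ k e).inv (ComplexShape.up ℤ)).app I ≫
          ((EtCoh.pull k).mapHomologicalComplex _).map t ≫ t₂)) ↔
      QuasiIso (((EtCoh.pull i).mapHomologicalComplex _).map (bcχ g f h e w t)) := by
  haveI := h₂
  haveI : IsIso ((NatTrans.mapHomologicalComplex (comp₂ i f).hom (ComplexShape.up ℤ)).app
      (((EtCoh.push g).mapHomologicalComplex _).obj I)) :=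
    ((NatIso.mapHomologicalComplex (comp₂ i f) (ComplexShape.up ℤ)).app _).isIso_hom
  exact ((quasiIso_iff_comp_left _ _).symm.trans (iff_of_eq (congrArg (fun m => QuasiIso m)
    (bcχ_comp f g h e w i j k w' w'' t t₂)))).trans (quasiIso_iff_comp_right _ _)

/-- The predicate: every replacement of the inverse image gives a quasi-isomorphism. -/
def Good (p : X ⟶ S) (q : Y ⟶ T) (wp : q ≫ g = h ≫ p) (I : CochainComplex (EtCoh.Ab T) ℤ) : Prop :=
  ∀ (J : CochainComplex (EtCoh.Ab Y) ℤ) (_ : J.IsKInjective)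
    (m : ((EtCoh.pull q).mapHomologicalComplex _).obj I ⟶ J) (_ : QuasiIso m), QuasiIso (bcχ g p h q wp m)

theorem Good.congr {p p' : X ⟶ S} {q q' : Y ⟶ T} (hp : p = p') (hq : q = q') {wp : q ≫ g = h ≫ p}
    {wp' : q' ≫ g = h ≫ p'} {I : CochainComplex (EtCoh.Ab T) ℤ} (H : Good g h p q wp I) :
    Good g h p' q' wp' I := by
  subst hp hq
  exact H

end Groth.Agent.Lib.EtSite.BCCmp.Local

namespace Groth.Agent.Lib.EtSite.BCCmp.Local

open Paste

/-- The base change morphism of a K-injective complex is invertible etale locally on the base and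
on the source, hence invertible. -/
theorem isIso_bcMap_of_local {X S Y T : Scheme.{u}} (f : X ⟶ S) (g : T ⟶ S) (h : Y ⟶ X) (e : Y ⟶ T)
    (c : IsPullback e h g f) [PreservesFiniteLimits (EtCoh.pull e)] [PreservesFiniteLimits (EtCoh.pull f)]
    [DCoh.HasRpushEt T g] [DCoh.HasRpushEt Y h] [DCoh.HasRpushEt X f] (adj : EtBC.pullD f ⊣ DCoh.RpushEt X f)
    (K : DCoh.DEt T)
    {ι : Type u} (U : ι → X.Etale) (hU : EtCoh.Covers U) (V : ι → S.Etale)
    (a : ∀ i, (U i).left ⟶ (V i).left) (ha : ∀ i, a i ≫ (V i).hom = (U i).hom ≫ f)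
    (Ti Yi : ι → Scheme.{u}) (gi : ∀ i, Ti i ⟶ (V i).left) (ti : ∀ i, Ti i ⟶ T)
    (cT : ∀ i, IsPullback (ti i) (gi i) g (V i).hom)
    (hi : ∀ i, Yi i ⟶ (U i).left) (ei : ∀ i, Yi i ⟶ Ti i) (cY : ∀ i, IsPullback (ei i) (hi i) (gi i) (a i))
    [∀ i, PreservesFiniteLimits (EtCoh.pull (ei i))] [∀ i, PreservesFiniteLimits (EtCoh.pull (a i))]
    [∀ i, PreservesFiniteLimits (EtCoh.pull (ti i))]
    [∀ i, DCoh.HasRpushEt (Ti i) (gi i)] [∀ i, DCoh.HasRpushEt (Yi i) (hi i)]
    [∀ i, DCoh.HasRpushEt (U i).left (a i)]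
    (adji : ∀ i, EtBC.pullD (a i) ⊣ DCoh.RpushEt (U i).left (a i))
    (hloc : ∀ i, IsIso (EtBC.bcMap (gi i) (a i) (hi i) (ei i) (cY i).w (adji i) ((EtBC.pullD (ti i)).obj K))) :
    IsIso (EtBC.bcMap g f h e c.w adj K) := by
  obtain ⟨I, hI, ⟨eI⟩⟩ := exists_kinj K
  obtain ⟨J, t, hJ, ht⟩ := DerCat.KInjExists.hasKInjRes (((EtCoh.pull e).mapHomologicalComplex _).obj I)
  refine (isIso_bcMap_iff_of_iso g f h e c.w adj eI).1 ((isIso_bcMap_kinj_iff g f h e c.w adj I t).2 ?_)
  refine quasiIso_of_pull _ U hU fun n => ?_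
  haveI : Etale (U n).hom := (U n).prop
  haveI : Etale (V n).hom := (V n).prop
  haveI : Etale (ti n) := MorphismProperty.of_isPullback (cT n).flip ‹Etale (V n).hom›
  -- the rectangle through the etale chart of the base
  let I' := ((EtCoh.pull (ti n)).mapHomologicalComplex (ComplexShape.up ℤ)).obj I
  haveI : CochainComplex.IsKInjective I' := isKInjective_pull (ti n) I
  have hV : Good g (hi n) (a n ≫ (V n).hom) (ei n ≫ ti n)
      (by rw [Category.assoc, (cT n).w, ← Category.assoc, (cY n).w, Category.assoc]) I := by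
    intro J' hJ' m hm
    let t' : ((EtCoh.pull (ei n)).mapHomologicalComplex _).obj I' ⟶ J' :=
      (NatTrans.mapHomologicalComplex (comp₂ (ei n) (ti n)).hom (ComplexShape.up ℤ)).app I ≫ m
    haveI : IsIso ((NatTrans.mapHomologicalComplex (comp₂ (ei n) (ti n)).hom (ComplexShape.up ℤ)).app I) :=
      ((NatIso.mapHomologicalComplex (comp₂ (ei n) (ti n)) (ComplexShape.up ℤ)).app _).isIso_hom
    haveI := quasiIso_of_isIso ((NatTrans.mapHomologicalComplex (comp₂ (ei n) (ti n)).hom
      (ComplexShape.up ℤ)).app I)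
    haveI : QuasiIso t' := quasiIso_comp _ _ (hφ := this) (hφ' := hm)
    have h2 : QuasiIso (bcχ (gi n) (a n) (hi n) (ei n) (cY n).w t') :=
      (isIso_bcMap_kinj_iff (gi n) (a n) (hi n) (ei n) (cY n).w (adji n) I' t').1
        ((isIso_bcMap_iff_of_iso (gi n) (a n) (hi n) (ei n) (cY n).w (adji n)
          ((pullIso (ti n) (𝟙 I')).symm ≪≫ (EtBC.pullD (ti n)).mapIso eI)).2 (hloc n))
    haveI := quasiIso_bcχ_etale g (V n).hom (gi n) (ti n) (cT n) I (𝟙 I')
    have h3 := (quasiIso_comp_iff (V n).hom g (gi n) (ti n) (cT n).w (a n) (hi n) (ei n) (cY n).w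
      (by rw [Category.assoc, (cT n).w, ← Category.assoc, (cY n).w, Category.assoc]) (𝟙 I') t' h2).2
      inferInstance
    refine (congrArg (fun x => QuasiIso (bcχ g (a n ≫ (V n).hom) (hi n) (ei n ≫ ti n) _ x)) ?_).mpr h3
    refine HomologicalComplex.hom_ext _ _ fun q => ?_
    change m.f q = (comp₂ (ei n) (ti n)).inv.app (I.X q) ≫ (EtCoh.pull (ei n)).map (𝟙 _) ≫
      (comp₂ (ei n) (ti n)).hom.app (I.X q) ≫ m.f q
    refine Eq.symm ((_ ≫= ((eq_whisker ((EtCoh.pull (ei n)).map_id _) _).trans (Category.id_comp _))).trans ?_)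
    exact (comp₂ (ei n) (ti n)).inv_hom_id_app_assoc _ _
  -- the rectangle through the chart of the source
  let k : Yi n ⟶ Y := c.lift (ei n ≫ ti n) (hi n ≫ (U n).hom)
    (by rw [Category.assoc, Category.assoc, (cT n).w, ← Category.assoc, (cY n).w, Category.assoc, ha n])
  have k1 : k ≫ e = ei n ≫ ti n := c.lift_fst _ _ _
  have k2 : k ≫ h = hi n ≫ (U n).hom := c.lift_snd _ _ _
  have p : IsPullback k (hi n) h (U n).hom := by
    have sV := (cY n).paste_horiz (cT n)
    rw [← k1, ha n] at sV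
    exact sV.of_right k2 c
  haveI : Etale k := MorphismProperty.of_isPullback p.flip ‹Etale (U n).hom›
  haveI : CochainComplex.IsKInjective (((EtCoh.pull k).mapHomologicalComplex (ComplexShape.up ℤ)).obj J) :=
    isKInjective_pull k J
  haveI : IsIso ((NatTrans.mapHomologicalComplex (comp₂ k e).inv (ComplexShape.up ℤ)).app I) :=
    ((NatIso.mapHomologicalComplex (comp₂ k e) (ComplexShape.up ℤ)).app _).isIso_inv
  have hU' : Good g (hi n) ((U n).hom ≫ f) (k ≫ e)
      (by rw [Category.assoc, c.w, ← Category.assoc, k2, Category.assoc]) I := hV.congr g (hi n) (ha n) k1.symm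
  refine (quasiIso_comp_iff f g h e c.w (U n).hom (hi n) k k2
    (by rw [Category.assoc, c.w, ← Category.assoc, k2, Category.assoc]) t (𝟙 _)
    (quasiIso_bcχ_etale h (U n).hom (hi n) k p J (𝟙 _))).1 (hU' _ inferInstance _ ?_)
  have h1 := quasiIso_of_isIso ((NatTrans.mapHomologicalComplex (comp₂ k e).inv (ComplexShape.up ℤ)).app I)
  have h2 : QuasiIso (((EtCoh.pull k).mapHomologicalComplex (ComplexShape.up ℤ)).map t) := inferInstance
  rw [Category.comp_id]
  exact quasiIso_comp _ _ (hφ := h1) (hφ' := h2)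

end Groth.Agent.Lib.EtSite.BCCmp.Local
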