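import Groth.Agent.Lib.EtSite.BCCmp.Etale
import Groth.Agent.Lib.EtSite.EtBCQ
import Groth.Agent.Lib.DerCat.KInjExists

/-!
Pasting of derived base change maps on arbitrary objects.
-/

set_option autoImplicit false
set_option backward.isDefEq.respectTransparency.types false
set_option linter.unusedSectionVars false
set_option linter.style.haveILetI false

universe u

open CategoryTheory CategoryTheory.Limits AlgebraicGeometry

attribute [local instance] HasDerivedCategory.standard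

noncomputable section

namespace Groth.Agent.Lib.EtSite.BCCmp.Paste

open Etale

variable {X S X' S' : Scheme.{u}} (f : X ⟶ S) (g : S' ⟶ S) (f' : X' ⟶ S') (g' : X' ⟶ X)
  (w : g' ≫ f = f' ≫ g)

/-- The degree zero base change map, natural in the sheaf. -/
def bc : EtCoh.push f ⋙ EtCoh.pull g ⟶ EtCoh.pull g' ⋙ EtCoh.push f' :=
  Degree.bNat (EtCoh.pullPushAdj g) (EtCoh.pullPushAdj g') (sq f g f' g' w)

/-- The map on complexes attached to a replacement of the inverse image. -/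
def bcχ {I : CochainComplex (EtCoh.Ab X) ℤ} {J : CochainComplex (EtCoh.Ab X') ℤ}
    (t : ((EtCoh.pull g').mapHomologicalComplex _).obj I ⟶ J) :
    ((EtCoh.pull g).mapHomologicalComplex _).obj (((EtCoh.push f).mapHomologicalComplex _).obj I) ⟶
      ((EtCoh.push f').mapHomologicalComplex _).obj J :=
  (NatTrans.mapHomologicalComplex (bc f g f' g' w) (ComplexShape.up ℤ)).app I ≫
    ((EtCoh.push f').mapHomologicalComplex _).map t

variable [PreservesFiniteLimits (EtCoh.pull g')] [PreservesFiniteLimits (EtCoh.pull g)]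
  [DCoh.HasRpushEt X f] [DCoh.HasRpushEt X' f'] [DCoh.HasRpushEt S' g]

theorem isIso_Qh_map_iff {C : Type*} [Category C] [Abelian C] [HasDerivedCategory C]
    {K M : CochainComplex C ℤ} (φ : K ⟶ M) :
    IsIso (DerivedCategory.Qh.map ((HomotopyCategory.quotient C (ComplexShape.up ℤ)).map φ)) ↔ QuasiIso φ :=
  (prop_natIso (DerivedCategory.quotientCompQhIso C) (MorphismProperty.isomorphisms _) φ).trans
    (DerivedCategory.isIso_Q_map_iff_quasiIso _ φ)

/-- The derived base change map of a K-injective complex. -/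
theorem isIso_bcMap_kinj_iff (adj : EtBC.pullD g ⊣ DCoh.RpushEt S' g)
    (I : CochainComplex (EtCoh.Ab X) ℤ) [I.IsKInjective] {J : CochainComplex (EtCoh.Ab X') ℤ} [J.IsKInjective]
    (t : ((EtCoh.pull g').mapHomologicalComplex _).obj I ⟶ J) [QuasiIso t] :
    IsIso (EtBC.bcMap f g f' g' w adj
        (DerivedCategory.Qh.obj ((HomotopyCategory.quotient (EtCoh.Ab X) (ComplexShape.up ℤ)).obj I))) ↔
      QuasiIso (bcχ f g f' g' w t) := by
  rw [bcMap_eq]
  exact (prop_bcD_qis_iff (EtCoh.pullPushAdj g) (EtCoh.pullPushAdj g') (sq f g f' g' w) adj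
    (fac f g f' g' w) (MorphismProperty.isomorphisms _) I t).trans (isIso_Qh_map_iff _)

theorem isIso_bcMap_iff_of_iso (adj : EtBC.pullD g ⊣ DCoh.RpushEt S' g) {K K' : DCoh.DEt X}
    (e : K ≅ K') : IsIso (EtBC.bcMap f g f' g' w adj K) ↔ IsIso (EtBC.bcMap f g f' g' w adj K') := by
  rw [bcMap_eq, bcMap_eq]
  exact prop_bcD_iff_of_iso adj (MorphismProperty.isomorphisms _) e

/-- Every object is given by a K-injective complex. -/
theorem exists_kinj {U : Scheme.{u}} (K : DCoh.DEt U) :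
    ∃ I : CochainComplex (EtCoh.Ab U) ℤ, I.IsKInjective ∧ Nonempty
      (DerivedCategory.Qh.obj ((HomotopyCategory.quotient (EtCoh.Ab U) (ComplexShape.up ℤ)).obj I) ≅ K) := by
  obtain ⟨K₀, ⟨e⟩⟩ : ∃ K₀ : CochainComplex (EtCoh.Ab U) ℤ, Nonempty (DerivedCategory.Q.obj K₀ ≅ K) :=
    ⟨_, ⟨DerivedCategory.Q.objObjPreimageIso K⟩⟩
  obtain ⟨I, φ, hI, hφ⟩ := DerCat.KInjExists.hasKInjRes K₀
  haveI : IsIso (DerivedCategory.Q.map φ) := (DerivedCategory.isIso_Q_map_iff_quasiIso _ φ).2 hφ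
  exact ⟨I, hI, ⟨(DerivedCategory.quotientCompQhIso _).app I ≪≫ (asIso (DerivedCategory.Q.map φ)).symm ≪≫ e⟩⟩

/-- The inverse image of a complex, up to a quasi-isomorphic replacement. -/
def pullIso {U V : Scheme.{u}} (k : U ⟶ V) [PreservesFiniteLimits (EtCoh.pull k)]
    {I : CochainComplex (EtCoh.Ab V) ℤ} {J : CochainComplex (EtCoh.Ab U) ℤ}
    (t : ((EtCoh.pull k).mapHomologicalComplex _).obj I ⟶ J) [QuasiIso t] :
    (EtBC.pullD k).obj (DerivedCategory.Qh.obj ((HomotopyCategory.quotient (EtCoh.Ab V) (ComplexShape.up ℤ)).obj I)) ≅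
      DerivedCategory.Qh.obj ((HomotopyCategory.quotient (EtCoh.Ab U) (ComplexShape.up ℤ)).obj J) :=
  (EtCoh.pull k).mapDerivedCategoryFactorsh.app _ ≪≫
    @asIso _ _ _ _ _ ((isIso_Qh_map_iff t).2 inferInstance)

end Groth.Agent.Lib.EtSite.BCCmp.Paste

namespace Groth.Agent.Lib.EtSite.BCCmp.Paste

variable {X S Y T W Z : Scheme.{u}} (f : X ⟶ S) (g : T ⟶ S) (h : Y ⟶ X) (e : Y ⟶ T)
  (w : e ≫ g = h ≫ f) (i : W ⟶ X) (j : Z ⟶ W) (k : Z ⟶ Y) (w' : k ≫ h = j ≫ i)
  (w'' : (k ≫ e) ≫ g = j ≫ i ≫ f)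

/-- The composite of two inverse images. -/
def comp₂ {U V R : Scheme.{u}} (k : U ⟶ V) (e : V ⟶ R) : EtCoh.pull e ⋙ EtCoh.pull k ≅ EtCoh.pull (k ≫ e) :=
  (((EtCoh.pullPushAdj e).comp (EtCoh.pullPushAdj k)).ofNatIsoRight
    (EtCoh.pushComp e k)).leftAdjointUniq (EtCoh.pullPushAdj (k ≫ e))

/-- Pasting of the degree zero maps. -/
theorem bc_comp (M : EtCoh.Ab T) :
    (comp₂ i f).hom.app ((EtCoh.push g).obj M) ≫ (bc g (i ≫ f) j (k ≫ e) w'').app M =
      (EtCoh.pull i).map ((bc g f h e w).app M) ≫ (bc h i j k w').app ((EtCoh.pull e).obj M) ≫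
        (EtCoh.push j).map ((comp₂ k e).hom.app M) := by
  let G := (EtCoh.pull e).obj M
  let H := (EtCoh.pull k).obj G
  let A : (EtCoh.push g).obj M ⟶ (EtCoh.push f).obj ((EtCoh.push h).obj G) :=
    (EtCoh.push g).map ((EtCoh.pullPushAdj e).unit.app M) ≫ (Etale.sq g f h e w).app G
  let B : (EtCoh.push h).obj G ⟶ (EtCoh.push i).obj ((EtCoh.push j).obj H) :=
    (EtCoh.push h).map ((EtCoh.pullPushAdj k).unit.app G) ≫ (Etale.sq h i j k w').app H
  let t : (EtCoh.push j).obj H ⟶ (EtCoh.push j).obj ((EtCoh.pull (k ≫ e)).obj M) :=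
    (EtCoh.push j).map ((comp₂ k e).hom.app M)
  have key : A ≫ (EtCoh.push f).map B ≫ (EtCoh.pushComp f i).hom.app ((EtCoh.push j).obj H) ≫
      (EtCoh.push (i ≫ f)).map t =
      (EtCoh.push g).map ((EtCoh.pullPushAdj (k ≫ e)).unit.app M) ≫
        (Etale.sq g (i ≫ f) j (k ≫ e) w'').app ((EtCoh.pull (k ≫ e)).obj M) := by
    have h1 := (Etale.sq g f h e w).naturality ((EtCoh.pullPushAdj k).unit.app G)
    have h2 := EtBCQ.square_compat f g h e i j k w w' w'' H
    have h3 := (Etale.sq g (i ≫ f) j (k ≫ e) w'').naturality ((comp₂ k e).hom.app M)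
    have h4 := EtBCQ.unit_comp (EtCoh.pullPushAdj e) (EtCoh.pullPushAdj k) (EtCoh.pullPushAdj (k ≫ e))
      (EtCoh.pushComp e k) M
    simp only [A, B, Functor.map_comp, Category.assoc]
    refine (_ ≫= ((Category.assoc _ _ _).symm.trans (eq_whisker h1.symm _))).trans ?_
    refine (_ ≫= (Category.assoc _ _ _)).trans ?_
    refine (_ ≫= (_ ≫= ((_ ≫= (Category.assoc _ _ _).symm).trans ((Category.assoc _ _ _).symm.trans
      ((eq_whisker ((Category.assoc _ _ _).symm.trans h2) _).trans (Category.assoc _ _ _)))))).trans ?_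
    refine (_ ≫= (_ ≫= (_ ≫= h3.symm))).trans ?_
    refine (Category.assoc _ _ _).symm.trans ((Category.assoc _ _ _).symm.trans
      ((Category.assoc _ _ _).symm.trans (eq_whisker ?_ _)))
    refine ((eq_whisker ((eq_whisker ((EtCoh.push g).map_comp _ _).symm _).trans
      ((EtCoh.push g).map_comp _ _).symm) _).trans ((EtCoh.push g).map_comp _ _).symm).trans ?_
    exact congrArg (EtCoh.push g).map h4
  refine (_ ≫= congrArg ((EtCoh.pullPushAdj (i ≫ f)).homEquiv _ _).symm key.symm).trans ?_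
  exact EtBCQ.transpose_comp (EtCoh.pullPushAdj f) (EtCoh.pullPushAdj i) (EtCoh.pullPushAdj (i ≫ f))
    (EtCoh.pushComp f i) A B t

/-- Pasting on complexes. -/
theorem bcχ_comp {I : CochainComplex (EtCoh.Ab T) ℤ} {J : CochainComplex (EtCoh.Ab Y) ℤ}
    {J₂ : CochainComplex (EtCoh.Ab Z) ℤ} (t : ((EtCoh.pull e).mapHomologicalComplex _).obj I ⟶ J)
    (t₂ : ((EtCoh.pull k).mapHomologicalComplex _).obj J ⟶ J₂) :
    (NatTrans.mapHomologicalComplex (comp₂ i f).hom (ComplexShape.up ℤ)).app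
        (((EtCoh.push g).mapHomologicalComplex _).obj I) ≫
      bcχ g (i ≫ f) j (k ≫ e) w'' ((NatTrans.mapHomologicalComplex (comp₂ k e).inv (ComplexShape.up ℤ)).app I ≫
        ((EtCoh.pull k).mapHomologicalComplex _).map t ≫ t₂) =
    ((EtCoh.pull i).mapHomologicalComplex _).map (bcχ g f h e w t) ≫ bcχ h i j k w' t₂ := by
  refine HomologicalComplex.hom_ext _ _ fun n => ?_
  have h1 := bc_comp f g h e w i j k w' w'' (I.X n)
  have h2 := (bc h i j k w').naturality (t.f n)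
  change (comp₂ i f).hom.app ((EtCoh.push g).obj (I.X n)) ≫ (bc g (i ≫ f) j (k ≫ e) w'').app (I.X n) ≫
      (EtCoh.push j).map ((comp₂ k e).inv.app (I.X n) ≫ (EtCoh.pull k).map (t.f n) ≫ t₂.f n) =
    (EtCoh.pull i).map ((bc g f h e w).app (I.X n) ≫ (EtCoh.push h).map (t.f n)) ≫
      (bc h i j k w').app (J.X n) ≫ (EtCoh.push j).map (t₂.f n)
  refine (Category.assoc _ _ _).symm.trans ((eq_whisker h1 _).trans ?_)
  simp only [Category.assoc]
  refine (_ ≫= (_ ≫= ((EtCoh.push j).map_comp _ _).symm)).trans ?_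
  rw [Iso.hom_inv_id_app_assoc, Functor.map_comp, Functor.map_comp]
  refine Eq.trans ?_ (Category.assoc _ _ _).symm
  refine _ ≫= ?_
  refine (Category.assoc _ _ _).symm.trans ((eq_whisker h2.symm _).trans (Category.assoc _ _ _))

variable [PreservesFiniteLimits (EtCoh.pull f)] [PreservesFiniteLimits (EtCoh.pull i)]
  [PreservesFiniteLimits (EtCoh.pull (i ≫ f))] [PreservesFiniteLimits (EtCoh.pull e)]
  [PreservesFiniteLimits (EtCoh.pull k)] [PreservesFiniteLimits (EtCoh.pull (k ≫ e))]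
  [DCoh.HasRpushEt T g] [DCoh.HasRpushEt Y h] [DCoh.HasRpushEt Z j] [DCoh.HasRpushEt X f]
  [DCoh.HasRpushEt W i] [DCoh.HasRpushEt W (i ≫ f)]
  (adj₁ : EtBC.pullD f ⊣ DCoh.RpushEt X f) (adj₂ : EtBC.pullD i ⊣ DCoh.RpushEt W i)
  (adj₃ : EtBC.pullD (i ≫ f) ⊣ DCoh.RpushEt W (i ≫ f))

/-- If the upper square is good, the rectangle is good as soon as the lower square is so after
pulling back; stated on K-injective complexes. -/
theorem quasiIso_comp_iff {I : CochainComplex (EtCoh.Ab T) ℤ} {J : CochainComplex (EtCoh.Ab Y) ℤ}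
    {J₂ : CochainComplex (EtCoh.Ab Z) ℤ} (t : ((EtCoh.pull e).mapHomologicalComplex _).obj I ⟶ J)
    (t₂ : ((EtCoh.pull k).mapHomologicalComplex _).obj J ⟶ J₂) (h₂ : QuasiIso (bcχ h i j k w' t₂)) :
    QuasiIso (bcχ g (i ≫ f) j (k ≫ e) w''
        ((NatTrans.mapHomologicalComplex (comp₂ k e).inv (ComplexShape.up ℤ)).app I ≫
          ((EtCoh.pull k).mapHomologicalComplex _).map t ≫ t₂)) ↔
      QuasiIso (((EtCoh.pull i).mapHomologicalComplex _).map (bcχ g f h e w t)) := by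
  haveI := h₂
  haveI : IsIso ((NatTrans.mapHomologicalComplex (comp₂ i f).hom (ComplexShape.up ℤ)).app
      (((EtCoh.push g).mapHomologicalComplex _).obj I)) :=
    ((NatIso.mapHomologicalComplex (comp₂ i f) (ComplexShape.up ℤ)).app _).isIso_hom
  exact ((quasiIso_iff_comp_left _ _).symm.trans (iff_of_eq (congrArg (fun m => QuasiIso m)
    (bcχ_comp f g h e w i j k w' w'' t t₂)))).trans (quasiIso_iff_comp_right _ _)

/-- **Pasting of derived base change isomorphisms.** -/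
theorem isIso_bcMap_comp (K : DCoh.DEt T)
    (h1 : IsIso (EtBC.bcMap g f h e w adj₁ K))
    (h2 : IsIso (EtBC.bcMap h i j k w' adj₂ ((EtBC.pullD e).obj K))) :
    IsIso (EtBC.bcMap g (i ≫ f) j (k ≫ e) w'' adj₃ K) := by
  obtain ⟨I, hI, ⟨eI⟩⟩ := exists_kinj K
  obtain ⟨J, t, hJ, ht⟩ := DerCat.KInjExists.hasKInjRes (((EtCoh.pull e).mapHomologicalComplex _).obj I)
  obtain ⟨J₂, t₂, hJ₂, ht₂⟩ := DerCat.KInjExists.hasKInjRes (((EtCoh.pull k).mapHomologicalComplex _).obj J)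
  haveI := (isIso_bcMap_kinj_iff g f h e w adj₁ I t).1 ((isIso_bcMap_iff_of_iso g f h e w adj₁ eI).2 h1)
  have h2' : QuasiIso (bcχ h i j k w' t₂) := (isIso_bcMap_kinj_iff h i j k w' adj₂ J t₂).1
    ((isIso_bcMap_iff_of_iso h i j k w' adj₂
      ((pullIso e t).symm ≪≫ (EtBC.pullD e).mapIso eI)).2 h2)
  haveI : IsIso ((NatTrans.mapHomologicalComplex (comp₂ k e).inv (ComplexShape.up ℤ)).app I) :=
    ((NatIso.mapHomologicalComplex (comp₂ k e) (ComplexShape.up ℤ)).app _).isIso_inv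
  haveI : QuasiIso (((EtCoh.pull k).mapHomologicalComplex (ComplexShape.up ℤ)).map t) := inferInstance
  haveI hq : QuasiIso (((EtCoh.pull k).mapHomologicalComplex (ComplexShape.up ℤ)).map t ≫ t₂) :=
    quasiIso_comp (hφ := inferInstance) (hφ' := ht₂) _ _
  haveI : QuasiIso ((NatTrans.mapHomologicalComplex (comp₂ k e).inv (ComplexShape.up ℤ)).app I ≫
      ((EtCoh.pull k).mapHomologicalComplex _).map t ≫ t₂) :=
    quasiIso_comp ((NatTrans.mapHomologicalComplex (comp₂ k e).inv (ComplexShape.up ℤ)).app I)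
      (((EtCoh.pull k).mapHomologicalComplex _).map t ≫ t₂) (hφ' := hq)
  refine (isIso_bcMap_iff_of_iso g (i ≫ f) j (k ≫ e) w'' adj₃ eI).1
    ((isIso_bcMap_kinj_iff g (i ≫ f) j (k ≫ e) w'' adj₃ I
      ((NatTrans.mapHomologicalComplex (comp₂ k e).inv (ComplexShape.up ℤ)).app I ≫
        ((EtCoh.pull k).mapHomologicalComplex _).map t ≫ t₂)).2 ?_)
  exact (quasiIso_comp_iff f g h e w i j k w' w'' t t₂ h2').2 inferInstance

end Groth.Agent.Lib.EtSite.BCCmp.Paste
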